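import Groth.Agent.Lib.ConStalk4.VirtualDim
import Groth.Agent.Lib.OmegaExist4.Basic
import Groth.Agent.Lib.OmegaLocal4.Compat
import Groth.Agent.Lib.PPGen.EtaleSquare
import Groth.Agent.Lib.RegImm12.ConormalSeq
import Groth.Agent.Lib.ModelK.Basic
import Groth.Agent.Lib.K0Sub.Basic
import Groth.Agent.Lib.OX.LocFreeTensor
import Groth.Agent.S9386
import Groth.Agent.S8656
import Groth.Agent.S8905
import Groth.Prelude.Def_KRR

/-!
# The class of the cotangent complex does not depend on the factorisation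
-/

set_option autoImplicit false
set_option backward.isDefEq.respectTransparency false
set_option maxHeartbeats 1000000

universe u

open CategoryTheory CategoryTheory.Limits AlgebraicGeometry Opposite TopologicalSpace

noncomputable section

namespace GrothLib.CotClass4

variable {X Y V V' : Scheme.{u}}

/-- A universal derivation of a smooth morphism has finite locally free target. -/
theorem isFinLocFree_omega (g : V ⟶ Y) [Smooth g] (Ω : V.Modules) (d : OmegaSh.Der g Ω)
    (hd : OmegaSh.IsUniversal d) : FlatMod.IsFinLocFree Ω := fun x => by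
  obtain ⟨U, n, hU, he, -⟩ := ConStalk4.exists_free_omega g Ω d hd x
  exact ⟨U, n, hU, he⟩

/-- The conormal sheaf of a closed embedding of an lci morphism into a smooth one. -/
theorem isFinLocFree_conormal {f : X ⟶ Y} (hf : ∀ x : X, Synt.IsKoszulAt f x) (g : V ⟶ Y) [Smooth g]
    (i : X ⟶ V) [IsClosedImmersion i] (hi : i ≫ g = f) : FlatMod.IsFinLocFree (Omega.conormal i) :=
  RegImm12.isFinLocFree_conormal_of_h1 i
    ((Groth.Agent.S8905.result i).2.1 (Groth.Agent.S8656.result f hf g i hi))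

/-- Differentials of the fibre product, on an open piece. -/
theorem nonempty_iso_omega (g : V ⟶ Y) (g' : V' ⟶ Y) (Ω' : V'.Modules) (d' : OmegaSh.Der g' Ω')
    (hd' : OmegaSh.IsUniversal d') {W : Scheme.{u}} (o : W ⟶ pullback g g') [IsOpenImmersion o]
    (ΩW : W.Modules) (dW : OmegaSh.Der (o ≫ pullback.fst g g') ΩW) (hW : OmegaSh.IsUniversal dW) :
    Nonempty ((Scheme.Modules.pullback (o ≫ pullback.snd g g')).obj Ω' ≅ ΩW) := by
  obtain ⟨ΩP, dP, hP⟩ := OmegaExist4.exists_universal (pullback.fst g g')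
  obtain ⟨c, hc, -⟩ := OmegaLocal4.existsUnique_compat (pullback.snd g g') g pullback.condition d' hd' dP
  haveI := Groth.Agent.S9386.result g' g (pullback.snd g g') (pullback.fst g g')
    (IsPullback.of_hasPullback g g').flip Ω' d' hd' ΩP dP hP c hc
  obtain ⟨e, he, -⟩ := OmegaLocal4.existsUnique_compat o (𝟙 V) (Category.comp_id _) dP hP dW
  haveI := PPGen.isIso_diffCompat_of_etale (pullback.fst g g') o (o ≫ pullback.fst g g') rfl hP hW e he
  exact ⟨((Scheme.Modules.pullbackComp o (pullback.snd g g')).app Ω').symm ≪≫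
    (Scheme.Modules.pullback o).mapIso (asIso c) ≪≫ asIso e⟩

/-- `[C_k] = [C_i] + [i'^*Ω']` for a closed immersion `k` into an open piece of the product. -/
theorem cl_conormal_eq {f : X ⟶ Y} (hf : ∀ x : X, Synt.IsKoszulAt f x) (g : V ⟶ Y) [Smooth g] (g' : V' ⟶ Y)
    [Smooth g'] (i : X ⟶ V) [IsClosedImmersion i] (i' : X ⟶ V') [IsClosedImmersion i'] (hi : i ≫ g = f)
    (Ω' : V'.Modules) (d' : OmegaSh.Der g' Ω') (hd' : OmegaSh.IsUniversal d')
    {W : Scheme.{u}} (o : W ⟶ pullback g g') [IsOpenImmersion o] (k : X ⟶ W) [IsClosedImmersion k]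
    (hk : k ≫ o ≫ pullback.fst g g' = i) (hk' : k ≫ o ≫ pullback.snd g g' = i') :
    KRR.cl X (Omega.conormal k) =
      KRR.cl X (Omega.conormal i) + KRR.cl X ((Scheme.Modules.pullback i').obj Ω') := by
  obtain ⟨ΩW, dW, hW⟩ := OmegaExist4.exists_universal (o ≫ pullback.fst g g')
  obtain ⟨ψ, hψ, -⟩ := ConStalk4.existsUnique (i := k) (i' := i) (g := o ≫ pullback.fst g g') (gZ := 𝟙 X)
    (by rw [Category.id_comp, hk])
  obtain ⟨w, hS⟩ := Groth.Agent.S9711.result (o ≫ pullback.fst g g') k i hk ΩW dW hW ψ hψ _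
    (ConStalk4.isConormalDiff_conormalDiff k dW)
  let e₁ : (Scheme.Modules.pullback (𝟙 X)).obj (Omega.conormal i) ≅ Omega.conormal i :=
    (Scheme.Modules.pullbackId X).app _
  obtain ⟨e⟩ := nonempty_iso_omega g g' Ω' d' hd' o ΩW dW hW
  let e₃ : (Scheme.Modules.pullback k).obj ΩW ≅ (Scheme.Modules.pullback i').obj Ω' :=
    (Scheme.Modules.pullback k).mapIso e.symm ≪≫
      (Scheme.Modules.pullbackComp k (o ≫ pullback.snd g g')).app Ω' ≪≫
      (Scheme.Modules.pullbackCongr hk').app Ω'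
  have h1 := DCoh.isFinLocFree_of_iso e₁.symm (isFinLocFree_conormal hf g i hi)
  have h3 := DCoh.isFinLocFree_of_iso e₃.symm (OX.isFinLocFree_pullback i' (isFinLocFree_omega g' Ω' d' hd'))
  have h2 : FlatMod.IsFinLocFree (Omega.conormal k) :=
    isFinLocFree_conormal hf (o ≫ pullback.fst g g' ≫ g) k (by rw [← hi, ← hk, Category.assoc, Category.assoc])
  refine (K0Sub.clSub_add (P := KRR.vbP X) hS h1 h2 h3).trans ?_
  have hz : ∀ Z : X.Modules, IsZero Z → KRR.vbP X Z := fun Z hZ => DCoh.isFinLocFree_of_isZero hZ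
  exact congrArg₂ (· + ·) (RegSheaf.clSub_iso hz e₁ h1 (DCoh.isFinLocFree_of_iso e₁ h1))
    (RegSheaf.clSub_iso hz e₃ h3 (DCoh.isFinLocFree_of_iso e₃ h3))

theorem result {f : X ⟶ Y} (hf : ∀ x : X, Synt.IsKoszulAt f x)
    (g : V ⟶ Y) [Smooth g] (i : X ⟶ V) [IsClosedImmersion i] (hi : i ≫ g = f)
    (g' : V' ⟶ Y) [Smooth g'] (i' : X ⟶ V') [IsClosedImmersion i'] (hi' : i' ≫ g' = f)
    (Ω : V.Modules) (d : OmegaSh.Der g Ω) (hd : OmegaSh.IsUniversal d)
    (Ω' : V'.Modules) (d' : OmegaSh.Der g' Ω') (hd' : OmegaSh.IsUniversal d') :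
    FlatMod.IsFinLocFree ((Scheme.Modules.pullback i).obj Ω) ∧ FlatMod.IsFinLocFree (Omega.conormal i) ∧
    FlatMod.IsFinLocFree ((Scheme.Modules.pullback i').obj Ω') ∧ FlatMod.IsFinLocFree (Omega.conormal i') ∧
    KRR.cl X ((Scheme.Modules.pullback i).obj Ω) - KRR.cl X (Omega.conormal i) =
      KRR.cl X ((Scheme.Modules.pullback i').obj Ω') - KRR.cl X (Omega.conormal i') := by
  refine ⟨OX.isFinLocFree_pullback i (isFinLocFree_omega g Ω d hd), isFinLocFree_conormal hf g i hi,
    OX.isFinLocFree_pullback i' (isFinLocFree_omega g' Ω' d' hd'), isFinLocFree_conormal hf g' i' hi', ?_⟩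
  let kP := pullback.lift i i' (hi.trans hi'.symm)
  haveI : IsImmersion (kP ≫ pullback.fst g g') := by rw [pullback.lift_fst]; infer_instance
  haveI : IsImmersion kP := IsImmersion.of_comp kP (pullback.fst g g')
  let k := kP.liftCoborder
  let o := kP.coborderRange.ι
  have hko : k ≫ o = kP := kP.liftCoborder_ι
  let s := pullbackSymmetry g g'
  have hfst : k ≫ o ≫ pullback.fst g g' = i := by rw [← Category.assoc, hko, pullback.lift_fst]
  have hsnd : k ≫ o ≫ pullback.snd g g' = i' := by rw [← Category.assoc, hko, pullback.lift_snd]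
  have h := cl_conormal_eq hf g g' i i' hi Ω' d' hd' o k hfst hsnd
  have h' := cl_conormal_eq hf g' g i' i hi' Ω d hd (o ≫ s.hom) k
    (by rw [Category.assoc, pullbackSymmetry_hom_comp_fst, hsnd])
    (by rw [Category.assoc, pullbackSymmetry_hom_comp_snd, hfst])
  rw [sub_eq_sub_iff_add_eq_add, add_comm, ← h', add_comm, h]

end GrothLib.CotClass4
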